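import Cfsg.Agent.H984.K547.PslExt
import Cfsg.Agent.H42.K547.EvenPlug

/-!
# S4547: the field `psl32` of `EvenSmall` (helper984)
-/

set_option autoImplicit false

open Cfsg

namespace Cfsg.Agent.H984.K547.Psl32

open Cfsg.Agent.H821.K547 Cfsg.Agent.H671.K547 Cfsg.Agent.H42.K547.Even

theorem ext_seven : ExtAll (Matrix.ProjectiveSpecialLinearGroup (Fin 2) (ZMod 7)) := by
  have : Fact (Nat.Prime 7) := ⟨by norm_num⟩
  exact PslExt.ext_psl2 (by rw [Nat.card_zmod]; decide) (by rw [Nat.card_zmod]; norm_num)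

/-- `PSL₃(2)` -/
theorem psl32 {F : Type} [Field F] [Fintype F] (hF : Fintype.card F = 2) :
    GE (Matrix.ProjectiveSpecialLinearGroup (Fin 3) F) := psl32_of ext_seven hF

end Cfsg.Agent.H984.K547.Psl32
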